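import Cfsg.Agent.S4997

/-!
Solvable groups in which a vanishing `p`-singular element and its vanishing `p`-singular powers share their order.
-/

set_option autoImplicit false
open Cfsg

namespace CfsgLib.OneOrderVanish

open CfsgLib.Char CfsgLib.CharNormal Cfsg.Agent.S4997
open scoped commutatorElement

/-- The reduced case. -/
theorem core_case {G : Type*} [Group G] [Finite G] [Group.IsSolvable G] (p : ℕ) [Fact p.Prime]
    (hO : Cfsg.pCore p G = ⊥)
    (hH : ∀ (x : G) (j : ℕ), p ∣ orderOf x → (∃ χ : Cfsg.IrrCharacter G, (χ : G → ℂ) x = 0) →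
      p ∣ orderOf (x ^ j) → (∃ χ : Cfsg.IrrCharacter G, (χ : G → ℂ) (x ^ j) = 0) →
        orderOf (x ^ j) = orderOf x)
    (S : Sylow p G) : Nat.card (S : Subgroup G) ≤ p := by
  classical
  have := Fintype.ofFinite G
  have hp : p.Prime := Fact.out
  set N := Cfsg.pPrimeCore p G with hN
  have hNn : N.Normal := Subgroup.sSup_normal _ fun _ h => h.1
  have hNco : (Nat.card N).Coprime p := CfsgLib.Cores.coprime_card_pPrimeCore p
  let π := QuotientGroup.mk' N
  have hπs : Function.Surjective π := QuotientGroup.mk'_surjective N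
  set T := Cfsg.pCore p (G ⧸ N) with hTdef
  have hTn : T.Normal := Cfsg.pCore_normal p _
  have hTp : IsPGroup p T := CfsgLib.Cores.isPGroup_pCore p
  have hCT : Subgroup.centralizer (T : Set (G ⧸ N)) ≤ T :=
    CfsgLib.Solvable.centralizer_pCore_le p (CfsgLib.Cores.pPrimeCore_quotient_self p)
  have hSN : (S : Subgroup G) ⊓ N = ⊥ := by
    obtain ⟨k, hk⟩ := IsPGroup.iff_card.1 S.2
    exact Subgroup.inf_eq_bot_of_coprime (by rw [hk]; exact hNco.symm.pow_left k)
  have hScard : Nat.card (S : Subgroup G) = Nat.card ((S : Subgroup G).map π) := by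
    refine (Nat.card_congr (Equiv.ofBijective (π.subgroupMap (S : Subgroup G)) ⟨?_, π.subgroupMap_surjective _⟩))
    rw [injective_iff_map_eq_one]
    intro x hx
    have : (x : G) ∈ (S : Subgroup G) ⊓ N := ⟨x.2, (QuotientGroup.eq_one_iff _).1 (congrArg Subtype.val hx)⟩
    rw [hSN, Subgroup.mem_bot] at this
    exact Subtype.ext this
  by_cases hT : T = ⊥
  · rw [hT] at hCT
    have htriv : ∀ x : G ⧸ N, x = 1 := fun x => Subgroup.mem_bot.1 (hCT (Subgroup.mem_centralizer_iff.2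
      fun y hy => by rw [Subgroup.coe_bot, Set.mem_singleton_iff] at hy; rw [hy, one_mul, mul_one]))
    rw [hScard, Subgroup.card_eq_one.2 ((Subgroup.eq_bot_iff_forall _).2 fun x _ => htriv x)]
    exact hp.one_le
  -- elements of order `p` in the centre of `T`
  let T₀ : Subgroup (G ⧸ N) :=
    { carrier := {x | x ∈ T ∧ (∀ y ∈ T, y * x = x * y) ∧ x ^ p = 1}
      one_mem' := ⟨one_mem T, fun y _ => by simp, one_pow p⟩
      mul_mem' := fun {x y} ⟨hx, hx', hx''⟩ ⟨hy, hy', hy''⟩ => ⟨mul_mem hx hy, fun z hz => by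
          rw [← mul_assoc, hx' z hz, mul_assoc, hy' z hz, mul_assoc],
        by rw [(show Commute x y from hy' x hx).mul_pow, hx'', hy'', one_mul]⟩
      inv_mem' := fun {x} ⟨hx, hx', hx''⟩ => ⟨inv_mem hx,
        fun z hz => (Commute.inv_right (hx' z hz)), by rw [inv_pow, hx'', inv_one]⟩ }
  have hT₀ : ∀ x, x ∈ T₀ ↔ x ∈ T ∧ (∀ y ∈ T, y * x = x * y) ∧ x ^ p = 1 := fun x => Iff.rfl
  have hT₀n : T₀.Normal := ⟨fun x hx g => by
    obtain ⟨hx, hx', hx''⟩ := (hT₀ x).1 hx
    refine (hT₀ _).2 ⟨hTn.conj_mem x hx g, fun y hy => ?_, by rw [conj_pow, hx'', mul_one, mul_inv_cancel]⟩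
    have h := hx' (g⁻¹ * y * g) (by simpa using hTn.conj_mem y hy g⁻¹)
    calc y * (g * x * g⁻¹) = g * ((g⁻¹ * y * g) * x) * g⁻¹ := by group
      _ = g * (x * (g⁻¹ * y * g)) * g⁻¹ := by rw [h]
      _ = g * x * g⁻¹ * y := by group⟩
  have hT₀bot : T₀ ≠ ⊥ := by
    intro h
    have hnt : Nontrivial T := T.nontrivial_iff_ne_bot.2 hT
    have := hTp.center_nontrivial
    obtain ⟨z, hz⟩ := exists_prime_orderOf_dvd_card' (G := Subgroup.center T) p
      (((hTp.to_subgroup _).card_eq_or_dvd).resolve_left Finite.one_lt_card.ne')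
    have hz' : orderOf ((z : T) : G ⧸ N) = p := by rw [Subgroup.orderOf_coe, Subgroup.orderOf_coe, hz]
    have : ((z : T) : G ⧸ N) ∈ T₀ := ⟨(z : T).2,
      fun y hy => congrArg Subtype.val (Subgroup.mem_center_iff.1 z.2 ⟨y, hy⟩), by rw [← hz', pow_orderOf_eq_one]⟩
    rw [h, Subgroup.mem_bot] at this
    rw [this, orderOf_one] at hz'
    exact hp.one_lt.ne hz'
  -- the elementary abelian group `A` above `T₀`
  set M := T₀.comap π with hM
  have hMn : M.Normal := hT₀n.comap π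
  set A := (S : Subgroup G) ⊓ M with hA
  have hAπ : ∀ a ∈ A, π a ∈ T₀ := fun a ha => (Subgroup.mem_inf.1 ha).2
  have hAinj : ∀ a ∈ A, π a = 1 → a = 1 := fun a ha h => by
    have : a ∈ (S : Subgroup G) ⊓ N := ⟨(Subgroup.mem_inf.1 ha).1, (QuotientGroup.eq_one_iff a).1 h⟩
    rwa [hSN, Subgroup.mem_bot] at this
  have hAel : Cfsg.IsElementaryAbelian p A :=
    ⟨⟨⟨fun a b => Subtype.ext (by
        have hab : π (⁅(a : G), (b : G)⁆) = 1 := by
          rw [map_commutatorElement, commutatorElement_eq_one_iff_mul_comm]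
          exact ((hT₀ _).1 (hAπ b b.2)).2.1 _ ((hT₀ _).1 (hAπ a a.2)).1
        exact commutatorElement_eq_one_iff_mul_comm.1 (hAinj _
          (by rw [commutatorElement_def]; exact mul_mem (mul_mem (mul_mem a.2 b.2) (inv_mem a.2)) (inv_mem b.2))
          hab))⟩⟩,
      fun a ha => hAinj _ (pow_mem ha p) (by rw [map_pow, ((hT₀ _).1 (hAπ a ha)).2.2])⟩
  have hAlift : ∀ t ∈ T₀, ∃ a ∈ A, π a = t := by
    intro t ht
    have hS' : t ∈ (S : Subgroup G).map π := by
      have := CfsgLib.Cores.pCore_le_sylow (S.mapSurjective hπs) ((hT₀ t).1 ht).1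
      exact this
    obtain ⟨a, ha, rfl⟩ := hS'
    exact ⟨a, ⟨ha, ht⟩, rfl⟩
  have hfaith : ∀ a ∈ A, (∀ n ∈ N, n * a = a * n) → a = 1 := by
    intro a ha h
    have hF : Cfsg.fittingSubgroup G ≤ N := by
      refine CfsgLib.Cores.fittingSubgroup_le_iSup_pCore.trans (iSup_le fun r => ?_)
      have : Fact (r : ℕ).Prime := ⟨Nat.prime_of_mem_primeFactors r.2⟩
      by_cases hr : (r : ℕ) = p
      · rw [hr, hO]; exact bot_le
      · have : (Cfsg.pCore (r : ℕ) G).Normal := Cfsg.pCore_normal _ _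
        refine CfsgLib.Cores.le_pPrimeCore ?_
        obtain ⟨j, hj⟩ := CfsgLib.Cores.card_pCore_eq_pow (G := G) (r : ℕ)
        rw [hj]
        exact ((Nat.coprime_primes Fact.out hp).2 hr).pow_left j
    have haF := CfsgLib.Solvable.centralizer_fittingSubgroup_le
      (Subgroup.mem_centralizer_iff.2 fun x hx => h x (hF hx))
    exact hAinj a ha ((QuotientGroup.eq_one_iff a).2 (hF haF))
  obtain ⟨a₀, ha₀, ha₀1⟩ : ∃ a ∈ A, a ≠ 1 := by
    obtain ⟨t, ht, ht1⟩ := (Subgroup.bot_or_exists_ne_one T₀).resolve_left hT₀bot  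
    obtain ⟨a, ha, rfl⟩ := hAlift t ht
    exact ⟨a, ha, fun h => ht1 (by rw [h, map_one])⟩
  -- a section `U/U'` of `N` moved by `A`
  obtain ⟨U, ⟨hUn, hUN, hUc⟩, hUmin⟩ := (Set.toFinite {U : Subgroup G | U.Normal ∧ U ≤ N ∧
      ∀ n ∈ N, ∀ a ∈ A, ⁅n, a⁆ ∈ U}).exists_minimal ⟨N, hNn, le_rfl, fun n hn a _ => by
    rw [commutatorElement_def, show n * a * n⁻¹ * a⁻¹ = n * (a * n⁻¹ * a⁻¹) by group]
    exact mul_mem hn (hNn.conj_mem _ (inv_mem hn) a)⟩
  set W := ⁅U, U⁆ with hW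
  have hWn : W.Normal := Subgroup.commutator_normal U U
  have hU1 : U ≠ ⊥ := fun h => ha₀1 (hfaith a₀ ha₀ fun n hn => by
    have := hUc n hn a₀ ha₀
    rw [h, Subgroup.mem_bot, commutatorElement_eq_one_iff_mul_comm] at this
    exact this)
  have hmove : ∃ a ∈ A, ∃ u ∈ U, ⁅a, u⁆ ∉ W := by
    by_contra! hall
    have hWlt : W < U := Group.IsSolvable.commutator_lt_of_ne_bot hU1
    refine hWlt.not_ge (hUmin ⟨hWn, hWlt.le.trans hUN, fun n hn a ha => ?_⟩ hWlt.le)
    let ρ := QuotientGroup.mk' W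
    have hz := hUc n hn a ha
    have hz1 : ρ ⁅n, a⁆⁻¹ = 1 := by
      have h1 : ρ a * ρ n * (ρ a)⁻¹ = ρ n * ρ (n⁻¹ * ⁅n, a⁆⁻¹ * n) := by
        rw [← map_inv, ← map_mul, ← map_mul, ← map_mul]
        exact congrArg ρ (by simp [commutatorElement_def, mul_assoc])
      have hu : n⁻¹ * ⁅n, a⁆⁻¹ * n ∈ U := by simpa using hUn.conj_mem _ (inv_mem hz) n⁻¹
      have h2 : ρ a * ρ (n⁻¹ * ⁅n, a⁆⁻¹ * n) * (ρ a)⁻¹ = ρ (n⁻¹ * ⁅n, a⁆⁻¹ * n) := by
        have := (QuotientGroup.eq_one_iff _).2 (hall a ha _ hu)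
        change ρ ⁅a, n⁻¹ * ⁅n, a⁆⁻¹ * n⁆ = 1 at this
        rw [map_commutatorElement, commutatorElement_eq_one_iff_mul_comm] at this
        rw [this, mul_inv_cancel_right]
      have hpw : ∀ j : ℕ, ρ a ^ j * ρ n * (ρ a ^ j)⁻¹ = ρ n * ρ (n⁻¹ * ⁅n, a⁆⁻¹ * n) ^ j := by
        intro j
        induction j with
        | zero => simp
        | succ j ihj =>
          calc ρ a ^ (j + 1) * ρ n * (ρ a ^ (j + 1))⁻¹ = ρ a * (ρ a ^ j * ρ n * (ρ a ^ j)⁻¹) * (ρ a)⁻¹ := by
                rw [pow_succ']; group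
            _ = ρ a * ρ n * (ρ a)⁻¹ * (ρ a * ρ (n⁻¹ * ⁅n, a⁆⁻¹ * n) * (ρ a)⁻¹) ^ j := by rw [ihj, conj_pow]; group
            _ = _ := by rw [h1, h2, mul_assoc, ← pow_succ']
      have h3 := hpw p
      rw [← map_pow, hAel.2 a ha, map_one, one_mul, inv_one, mul_one, left_eq_mul] at h3
      have h4 : ρ (n⁻¹ * ⁅n, a⁆⁻¹ * n) ^ Nat.card N = 1 := by
        rw [← map_pow, show (n⁻¹ * ⁅n, a⁆⁻¹ * n) ^ Nat.card N = 1 from
          congrArg Subtype.val (pow_card_eq_one' (x := (⟨_, hUN hu⟩ : N))), map_one]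
      have h5 : ρ (n⁻¹ * ⁅n, a⁆⁻¹ * n) = 1 := orderOf_eq_one_iff.1 (Nat.eq_one_of_dvd_coprimes hNco
        (orderOf_dvd_of_pow_eq_one h4) (orderOf_dvd_of_pow_eq_one h3))
      rw [map_mul, map_mul, map_inv ρ n] at h5
      calc ρ ⁅n, a⁆⁻¹ = ρ n * ((ρ n)⁻¹ * ρ ⁅n, a⁆⁻¹ * ρ n) * (ρ n)⁻¹ := by group
        _ = 1 := by rw [h5]; group
    exact inv_mem_iff.1 ((QuotientGroup.eq_one_iff _).1 hz1)
  -- the linear characters of `U`
  have := Fintype.ofFinite U
  have hUhom : Finite (U →* ℂˣ) := by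
    exact Finite.of_injective
      (fun (f : U →* ℂˣ) (n : U) => (⟨f n, by
        rw [mem_rootsOfUnity, ← map_pow, pow_card_eq_one', map_one]⟩ : rootsOfUnity (Nat.card U) ℂ))
      (fun f f' h => MonoidHom.ext fun n => congrArg Subtype.val (congrFun h n))
  have hDm : ∀ f : U →* ℂˣ, f ^ Nat.card U = 1 := fun f =>
    MonoidHom.ext fun n => by rw [MonoidHom.pow_apply, ← map_pow, pow_card_eq_one', map_one]; rfl
  let act : G →* MulAut (U →* ℂˣ) :=
    { toFun := fun g =>
        { toFun := conjHom g⁻¹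
          invFun := conjHom g
          left_inv := fun l => by rw [conjHom_conjHom, inv_mul_cancel, conjHom_one]
          right_inv := fun l => by rw [conjHom_conjHom, mul_inv_cancel, conjHom_one]
          map_mul' := conjHom_mul g⁻¹ }
      map_one' := MulEquiv.ext fun l => by show conjHom (1 : G)⁻¹ l = l; rw [inv_one, conjHom_one]
      map_mul' := fun g h => MulEquiv.ext fun l => by
        show conjHom (g * h)⁻¹ l = conjHom g⁻¹ (conjHom h⁻¹ l)
        rw [conjHom_conjHom, mul_inv_rev] }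
  have hact : ∀ g l (u : U), act g l u = l ⟨g⁻¹ * u * g⁻¹⁻¹, hUn.conj_mem u u.2 g⁻¹⟩ := fun g l u =>
    conjHom_apply g⁻¹ l u
  have hactU : ∀ u ∈ U, act u = 1 := fun u hu => MulEquiv.ext fun l => MonoidHom.ext fun v => by
    rw [MulAut.one_apply, hact]
    have : (⟨u⁻¹ * v * u⁻¹⁻¹, hUn.conj_mem v v.2 u⁻¹⟩ : U) = ⟨u, hu⟩⁻¹ * v * ⟨u, hu⟩⁻¹⁻¹ := Subtype.ext (by simp)
    rw [this]
    simp only [map_mul, map_inv, inv_inv]
    rw [mul_right_comm, inv_mul_cancel, one_mul]
  have hAact : ∀ n ∈ N, ∀ a ∈ A, Commute (act n) (act a) := fun n hn a ha => by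
    refine commutatorElement_eq_one_iff_mul_comm.1 ?_
    rw [← map_commutatorElement]
    exact hactU _ (hUc n hn a ha)
  have hker : ∀ a : G, act a = 1 → ∀ u ∈ U, ⁅a, u⁆ ∈ W := by
    intro a ha u hu
    let u' : U := ⟨a * u * a⁻¹, hUn.conj_mem u hu a⟩ * ⟨u, hu⟩⁻¹
    have hsep : ∀ f : U →* ℂˣ, f u' = 1 := fun f => by
      have h := DFunLike.congr_fun (DFunLike.congr_fun ha f) ⟨a * u * a⁻¹, hUn.conj_mem u hu a⟩
      rw [MulAut.one_apply, hact] at h
      rw [map_mul, map_inv, mul_inv_eq_one, ← h]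
      exact congrArg f (Subtype.ext (by simp [mul_assoc]))
    have hu' : u' ∈ commutator U := by
      by_contra hne
      have hne' : Abelianization.of u' ≠ 1 := fun h => hne ((QuotientGroup.eq_one_iff u').1 h)
      have : NeZero (Monoid.exponent (Abelianization U) : ℂ) :=
        ⟨by exact_mod_cast Monoid.exponent_ne_zero_of_finite⟩
      obtain ⟨φ, hφ⟩ := CommGroup.exists_apply_ne_one_of_hasEnoughRootsOfUnity (Abelianization U) ℂ hne'
      exact hφ (hsep (φ.comp Abelianization.of))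
    have := Subgroup.mem_map_of_mem U.subtype hu'
    rw [Subgroup.map_subtype_commutator] at this
    simpa [u', commutatorElement_def, mul_assoc] using this
  letI : CommGroup A := { (inferInstance : Group A) with mul_comm := hAel.1.is_comm.comm }
  obtain ⟨l, -, hl⟩ := exists_regular (A := ↥A) (D := ↥U →* ℂˣ) (p := p) hDm
    ((hNco.symm).coprime_dvd_right (Subgroup.card_dvd_of_le hUN))
    (fun a => Subtype.ext (hAel.2 a a.2)) (act.comp A.subtype) ⊤ (fun _ _ _ => Subgroup.mem_top _)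
  have hlfix : ∀ a ∈ A, act a l = l → act a = 1 := fun a ha h =>
    MulEquiv.ext fun f => hl ⟨a, ha⟩ h f (Subgroup.mem_top f)
  -- elements above the part of `T₀` outside the kernel fix no conjugate of `l`
  have hnofix : ∀ x : G, ∀ a ∈ A, π x = π a → act x l = l → act a = 1 := by
    intro x a ha hxa hx
    refine hlfix a ha ?_
    set n := a⁻¹ * x
    have hn : n ∈ N := (QuotientGroup.eq_one_iff n).1 (by
      show π (a⁻¹ * x) = 1; rw [map_mul, map_inv, hxa, inv_mul_cancel])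
    have hcomm := (hAact n hn a ha).symm
    have hxpow : ∀ j : ℕ, (act x ^ j) l = l := fun j => by
      induction j with
      | zero => rfl
      | succ j ihj => rw [pow_succ, MulAut.mul_apply, hx, ihj]
    have h1 : act x ^ Nat.card N = act a ^ Nat.card N := by
      rw [show x = a * n by simp [n], map_mul, hcomm.mul_pow, ← map_pow act n,
        show n ^ Nat.card N = 1 from congrArg Subtype.val (pow_card_eq_one' (x := (⟨n, hn⟩ : N))), map_one, mul_one]
    obtain ⟨y, -, hy⟩ := Nat.exists_mul_mod_eq_one_of_coprime hNco hp.one_lt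
    have h2 : act a = (act a ^ Nat.card N) ^ y := by
      conv_lhs => rw [← pow_one a, ← hy]
      rw [← pow_mul, ← map_pow]
      refine congrArg act ?_
      conv_rhs => rw [← Nat.mod_add_div (Nat.card N * y) p, pow_add, pow_mul, hAel.2 a ha, one_pow, mul_one]
    rw [h2, ← h1, ← pow_mul]
    exact hxpow _
  have hvan : ∀ (i : ℕ) (x : G), ∀ a ∈ A, act a ≠ 1 → π (x ^ i) = π a →
      ∃ χ : Cfsg.IrrCharacter G, (χ : G → ℂ) x = 0 := by
    intro i x a ha hane hxa
    have hθ : Cfsg.IsIrrCharacter U (fun u => (l u : ℂ)) := isIrrCharacter_units_hom l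
    obtain ⟨χ, hχ⟩ := exists_irr_over U hθ
    refine ⟨χ, eq_zero_of_no_fix hθ χ.2 hχ fun g hg => hane ?_⟩
    have hfix : act (g⁻¹ * x * g) l = l := by
      have h1 : conjHom (g⁻¹ * x * g) l = l := MonoidHom.ext fun u => Units.ext (by
        have := congrFun hg u
        rw [conjFun_apply] at this
        rw [conjHom_apply]; exact this)
      show conjHom (g⁻¹ * x * g)⁻¹ l = l
      conv_lhs => rw [← h1]
      rw [conjHom_conjHom, mul_inv_cancel, conjHom_one]
    have hfix' : act (g⁻¹ * x ^ i * g) l = l := by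
      have hp' : g⁻¹ * x ^ i * g = (g⁻¹ * x * g) ^ i := by
        have := conj_pow (a := g⁻¹) (b := x) (i := i)
        rw [inv_inv] at this
        exact this.symm
      rw [hp', map_pow]
      induction i with
      | zero => simp
      | succ j => exact (show ∀ k : ℕ, (act (g⁻¹ * x * g) ^ k) l = l from fun k => by
          induction k with
          | zero => rfl
          | succ k ihk => rw [pow_succ, MulAut.mul_apply, hfix, ihk]) _
    obtain ⟨a', ha', ha'e⟩ := hAlift _ (by simpa using hT₀n.conj_mem _ (hAπ a ha) (π g)⁻¹)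
    have h2 : π (g⁻¹ * x ^ i * g) = π a' := by
      rw [ha'e, map_mul, map_mul, hxa, map_inv]
    have h3 := hnofix _ a' ha' h2 hfix'
    -- back to `a`
    have h4 : act (g * a' * g⁻¹) = 1 := by rw [map_mul, map_mul, h3, mul_one, ← map_mul, mul_inv_cancel, map_one]
    refine hnofix (g * a' * g⁻¹) a ha ?_ (by rw [h4]; rfl)
    rw [map_mul, map_mul, ha'e, map_inv]
    group
  have hsing : ∀ (i : ℕ) (x : G), ∀ a ∈ A, a ≠ 1 → π (x ^ i) = π a → p ∣ orderOf x := by
    intro i x a ha ha1 hxa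
    have h1 : orderOf (π a) = p :=
      orderOf_eq_prime ((hT₀ _).1 (hAπ a ha)).2.2 fun h => ha1 (hAinj a ha h)
    rw [← h1, ← hxa]
    exact (orderOf_map_dvd π _).trans (orderOf_pow_dvd i)
  obtain ⟨a, haA, hane⟩ : ∃ a ∈ A, act a ≠ 1 := by
    obtain ⟨a, ha, u, hu, h⟩ := hmove
    exact ⟨a, ha, fun h' => h (hker a h' u hu)⟩
  have ha1 : a ≠ 1 := fun h => hane (by rw [h, map_one])
  have hord : orderOf a = p := orderOf_eq_prime (hAel.2 a haA) ha1
  have hnopow : ∀ (x : G) (i : ℕ), p ∣ i → ∀ b ∈ A, act b ≠ 1 → π (x ^ i) = π b → False := by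
    intro x i hi b hb hbne hxb
    have hb1 : b ≠ 1 := fun h => hbne (by rw [h, map_one])
    have hxp := hsing i x b hb hb1 hxb
    have e := hH x i hxp (hvan i x b hb hbne hxb) (hsing 1 (x ^ i) b hb hb1 (by rw [pow_one, hxb]))
      (hvan 1 (x ^ i) b hb hbne (by rw [pow_one, hxb]))
    rw [orderOf_pow] at e
    have h0 : 0 < orderOf x := orderOf_pos x
    have hg : (orderOf x).gcd i = 1 := by
      rcases (Nat.div_eq_self).1 e with h | h
      · omega
      · exact h
    exact hp.one_lt.ne' (Nat.dvd_one.1 (hg ▸ Nat.dvd_gcd hxp hi))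
  -- fixed point free
  have hfix1 : ∀ c : G, orderOf c = p → (∀ n ∈ N, ∀ j : ℕ, ¬ p ∣ j → n * c = c * n →
      ∃ χ : Cfsg.IrrCharacter G, (χ : G → ℂ) (c ^ j * n) = 0) →
      N ⊓ Subgroup.centralizer ({c} : Set G) = ⊥ := by
    intro c hc hv
    refine (Subgroup.eq_bot_iff_forall _).2 fun n hn => ?_
    obtain ⟨hnN, hnb⟩ := Subgroup.mem_inf.1 hn
    rw [Subgroup.mem_centralizer_singleton_iff] at hnb
    set m := orderOf n
    have hco : p.Coprime m := hNco.symm.coprime_dvd_right (Subgroup.orderOf_dvd_natCard N hnN)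
    have hmp : ¬ p ∣ m := fun h => hp.one_lt.ne' (Nat.eq_one_of_dvd_coprimes hco dvd_rfl h)
    have e : (c * n) ^ m = c ^ m := by
      rw [(show Commute c n from hnb.symm).mul_pow, pow_orderOf_eq_one, mul_one]
    have hocn : orderOf (c * n) = p * m := by
      rw [(show Commute c n from hnb.symm).orderOf_mul_eq_mul_orderOf_of_coprime (by rw [hc]; exact hco), hc]
    have hocm : orderOf (c ^ m) = p := by
      rw [Nat.Coprime.orderOf_pow (by rw [hc]; exact hco), hc]
    have v1 := hv n hnN 1 (fun h => hp.one_lt.ne' (Nat.dvd_one.1 h)) hnb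
    rw [pow_one] at v1
    have v2 := hv 1 (one_mem N) m hmp (by rw [one_mul, mul_one])
    rw [mul_one] at v2
    have h1 := hH (c * n) m (by rw [hocn]; exact dvd_mul_right p m) v1
      (by rw [e, hocm]) (by rw [e]; exact v2)
    rw [e, hocm, hocn] at h1
    exact orderOf_eq_one_iff.1 (mul_left_cancel₀ hp.ne_zero (h1.symm.trans (mul_one p).symm))
  have hfpf : ∀ b ∈ A, act b ≠ 1 → N ⊓ Subgroup.centralizer ({b} : Set G) = ⊥ := by
    intro b hb hbne
    have hob : orderOf b = p := orderOf_eq_prime (hAel.2 b hb) fun h => hbne (by rw [h, map_one])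
    refine hfix1 b hob fun n hn j hj _ => hvan 1 _ (b ^ j) (pow_mem hb j) (fun h => hbne ?_)
      (by rw [pow_one, map_mul, show π n = 1 from (QuotientGroup.eq_one_iff n).2 hn, mul_one])
    rw [map_pow] at h
    refine orderOf_eq_one_iff.1 (Nat.eq_one_of_dvd_coprimes ((hp.coprime_iff_not_dvd).2 hj)
      (orderOf_dvd_of_pow_eq_one (by rw [← map_pow, hAel.2 b hb, map_one])) (orderOf_dvd_of_pow_eq_one h))
  have hAN : A ≤ Subgroup.normalizer (N : Set G) := fun x _ => by
    rw [Subgroup.normalizer_eq_top N]; exact Subgroup.mem_top x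
  let K : Subgroup G := A ⊓ act.ker
  have hKA : K ≤ A := inf_le_left
  have hfree : ∀ b ∈ A, b ≠ 1 → act b ≠ 1 := by
    intro b hb hb1 hb'
    refine hb1 (hfaith b hb fun n hn => ?_)
    have hle := CfsgLib.Cores.le_of_hyperplanes (R := Subgroup.centralizer (K : Set G)) hAel hNco hAN
      fun B hBA hidx => by
        by_cases hBK : B ≤ K
        · -- `K` is then the only candidate of its size
          have hKB : K ≤ B := by
            have h1 := Subgroup.relIndex_mul_relIndex B K A hBK hKA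
            have h2 : K.relIndex A ≠ 1 := fun h => hane
              (MonoidHom.mem_ker.1 (Subgroup.mem_inf.1 (Subgroup.relIndex_eq_one.1 h haA)).2)
            have h3 : B.relIndex A ∣ Nat.card A := Subgroup.relIndex_dvd_card B A
            obtain ⟨j, hj⟩ := IsPGroup.iff_card.1 (S.2.to_le (inf_le_left : A ≤ (S : Subgroup G)))
            rw [hj] at h3
            obtain ⟨i, -, hi⟩ := (Nat.dvd_prime_pow hp).1 h3
            have hi1 : i ≤ 1 := (Nat.pow_le_pow_iff_right hp.one_lt).1 (by rw [← hi, pow_one]; exact hidx)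
            refine Subgroup.relIndex_eq_one.1 ?_
            interval_cases i
            · rw [pow_zero] at hi
              exact Nat.eq_one_of_mul_eq_one_right (h1.trans hi)
            · rw [pow_one] at hi
              rcases (Nat.dvd_prime hp).1 (Dvd.intro_left _ (h1.trans hi)) with h | h
              · exact absurd h h2
              · rw [hi, h] at h1
                exact (Nat.mul_eq_right hp.ne_zero).1 h1
          exact le_trans inf_le_right (Subgroup.centralizer_le hKB)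
        · obtain ⟨c, hcB, hcK⟩ := SetLike.not_le_iff_exists.1 hBK
          refine le_trans (le_of_le_of_eq ?_ (hfpf c (hBA hcB) fun h => hcK ⟨hBA hcB, MonoidHom.mem_ker.2 h⟩)) bot_le
          exact inf_le_inf_left _ (Subgroup.centralizer_le (Set.singleton_subset_iff.2 hcB))
    exact (Subgroup.mem_centralizer_iff.1 (hle hn) b ⟨hb, MonoidHom.mem_ker.2 hb'⟩).symm
  have hN1 : N ≠ ⊥ := fun h => ha1 (hfaith a haA fun n hn => by
    rw [h, Subgroup.mem_bot] at hn
    rw [hn, one_mul, mul_one])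
  have hAcard : Nat.card A = p := by
    by_contra hne
    refine hN1 (le_bot_iff.1 (CfsgLib.Cores.le_of_hyperplanes (R := ⊥) hAel hNco hAN fun B hBA hidx => ?_))
    obtain ⟨b, hbB, hb1⟩ : ∃ b ∈ B, b ≠ 1 := by
      refine (Subgroup.bot_or_exists_ne_one B).resolve_left fun hB => hne ?_
      rw [hB, Subgroup.relIndex_bot_left] at hidx
      obtain ⟨j, hj⟩ := IsPGroup.iff_card.1 (S.2.to_le (inf_le_left : A ≤ (S : Subgroup G)))
      have h2 : p ∣ Nat.card A := hord ▸ Subgroup.orderOf_dvd_natCard A haA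
      exact le_antisymm hidx (Nat.le_of_dvd Nat.card_pos h2)
    exact le_of_le_of_eq (inf_le_inf_left _ (Subgroup.centralizer_le (Set.singleton_subset_iff.2 hbB)))
      (hfpf b (hBA hbB) (hfree b (hBA hbB) hb1))
  have hT₀card : Nat.card T₀ = p := by
    rw [← hAcard]
    refine (Nat.card_congr (Equiv.ofBijective (fun b : A => (⟨π b, hAπ b b.2⟩ : T₀)) ⟨fun b c h => ?_, fun t => ?_⟩)).symm
    · have h' : π (b : G) = π c := congrArg Subtype.val h
      exact Subtype.ext (mul_inv_eq_one.1 (hAinj _ (mul_mem b.2 (inv_mem c.2))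
        (by rw [map_mul, map_inv, h', mul_inv_cancel])))
    · obtain ⟨b, hb, hbe⟩ := hAlift t t.2
      exact ⟨⟨b, hb⟩, Subtype.ext hbe⟩
  -- `Z(T) = T₀`
  have hcenT : ∀ z ∈ T, (∀ y ∈ T, y * z = z * y) → z ∈ T₀ := by
    intro z hz hzc
    obtain ⟨j, hj⟩ := IsPGroup.iff_orderOf.1 hTp ⟨z, hz⟩
    rw [← Subgroup.orderOf_coe] at hj
    rcases Nat.lt_or_ge j 2 with h | h
    · refine (hT₀ z).2 ⟨hz, hzc, orderOf_dvd_iff_pow_eq_one.1 (hj ▸ ?_)⟩
      interval_cases j
      · rw [pow_zero]; exact one_dvd p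
      · rw [pow_one]
    exfalso
    obtain ⟨x, hx⟩ := hπs z
    set i := p ^ (j - 1) with hi
    have hzi : z ^ i ∈ T₀ := (hT₀ _).2 ⟨pow_mem hz _, fun y hy => ((show Commute y z from hzc y hy).pow_right _).eq,
      by rw [← pow_mul, hi, ← pow_succ, show j - 1 + 1 = j by omega, ← hj, pow_orderOf_eq_one]⟩
    obtain ⟨b, hb, hbe⟩ := hAlift _ hzi
    have hb1 : b ≠ 1 := fun h => by
      rw [h, map_one] at hbe
      have := orderOf_dvd_of_pow_eq_one hbe.symm
      rw [hj, hi, Nat.pow_dvd_pow_iff_le_right hp.one_lt] at this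
      omega
    exact hnopow x i (dvd_pow_self p (by omega)) b hb (hfree b hb hb1) (by rw [map_pow, hx, hbe])
  -- `T = T₀`
  have hvanT : ∀ y, ∀ hy : y ∈ T, y ∉ T₀ → (∀ s ∈ T, ⁅y, s⁆ ∈ T₀) → ∀ x : G, π x = y →
      ∃ χ : Cfsg.IrrCharacter G, (χ : G → ℂ) x = 0 := by
    intro y hy hyT₀ hyc
    obtain ⟨s, hs, hsy⟩ : ∃ s ∈ T, s * y ≠ y * s := by
      by_contra! h
      exact hyT₀ (hcenT y hy h)
    set z := ⁅s, y⁆ with hz
    have hzT : z ∈ T₀ := by
      rw [hz, ← commutatorElement_inv]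
      exact inv_mem (hyc s hs)
    have hz1 : z ≠ 1 := fun h => hsy (commutatorElement_eq_one_iff_mul_comm.1 h)
    have := Fintype.ofFinite (G ⧸ N)
    have := Fintype.ofFinite T
    have hT₀T : T₀ ≤ T := fun x hx => ((hT₀ x).1 hx).1
    let z' : T := ⟨z, hT₀T hzT⟩
    obtain ⟨ψ, hψ⟩ : ∃ ψ : Cfsg.IrrCharacter T, (ψ : T → ℂ) z' ≠ (ψ : T → ℂ) 1 := by
      by_contra! h
      exact hz1 (congrArg Subtype.val (isConj_one_left.1 ((isConj_iff_forall_irr z' 1).2 h)) : _)
    obtain ⟨χ₁, hχ₁⟩ := exists_irr_over T ψ.2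
    have hz₀ : ∀ w ∈ T₀, w ≠ 1 → ∀ v ∈ T₀, v ∈ Subgroup.zpowers w := fun w hw hw1 v hv => by
      have : Fact (Nat.card T₀).Prime := ⟨hT₀card.symm ▸ hp⟩
      have h := mem_zpowers_of_prime_card (G := T₀) hT₀card (g := (⟨w, hw⟩ : T₀)) (g' := ⟨v, hv⟩)
        (fun h => hw1 (congrArg Subtype.val h))
      obtain ⟨e, he⟩ := h
      exact ⟨e, congrArg Subtype.val he⟩
    have hzero : ∀ φ ∈ orbit T ψ, (φ : T → ℂ) ⟨y, hy⟩ = 0 := by
      intro φ hφ
      obtain ⟨g, hg⟩ := (mem_orbit T).1 hφ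
      have hφz : (φ : T → ℂ) z' ≠ (φ : T → ℂ) 1 := by
        intro h
        rw [← hg, conjFun_apply, conjFun_apply_one] at h
        refine hψ ?_
        have hc := isCharacter_of_isIrr ψ.2
        have hmem : (⟨g * z * g⁻¹, hTn.conj_mem z (hT₀T hzT) g⟩ : T) ∈ charKer hc := h
        obtain ⟨e, he⟩ := hz₀ (g * z * g⁻¹) (hT₀n.conj_mem z hzT g) (by simpa using hz1) z hzT
        have : z' = (⟨g * z * g⁻¹, hTn.conj_mem z (hT₀T hzT) g⟩ : T) ^ e := Subtype.ext (by
          rw [Subgroup.coe_zpow]; exact he.symm)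
        rw [this]
        exact zpow_mem hmem e
      have hcen : z' ∈ Subgroup.center T := Subgroup.mem_center_iff.2 fun w =>
        Subtype.ext (((hT₀ z).1 hzT).2.1 w w.2)
      have h1 := char_center_mul φ.2 hcen ⟨y, hy⟩
      have h2 : (φ : T → ℂ) (z' * ⟨y, hy⟩) = (φ : T → ℂ) ⟨y, hy⟩ := by
        rw [show z' * ⟨y, hy⟩ = ⟨s, hs⟩ * ⟨y, hy⟩ * ⟨s, hs⟩⁻¹ from Subtype.ext (by
          show ⁅s, y⁆ * y = s * y * s⁻¹
          simp [commutatorElement_def, mul_assoc])]
        exact isClassFunction_of_isIrr φ.2 _ _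
      rw [h2] at h1
      have h3 : ((φ : T → ℂ) 1 - (φ : T → ℂ) z') * (φ : T → ℂ) ⟨y, hy⟩ = 0 := by linear_combination h1
      exact (mul_eq_zero.1 h3).resolve_left (sub_ne_zero.2 (Ne.symm hφz))
    have hχy : (χ₁ : G ⧸ N → ℂ) y = 0 := by
      have h := congrFun (res_eq_smul_sum_orbit T χ₁.2 ψ hχ₁) ⟨y, hy⟩
      rw [Pi.smul_apply, Finset.sum_apply, Finset.sum_eq_zero hzero, smul_zero] at h
      exact h
    intro x hx
    exact ⟨⟨(χ₁ : G ⧸ N → ℂ) ∘ QuotientGroup.mk, isIrr_comp_mk' N χ₁.2⟩, by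
      show (χ₁ : G ⧸ N → ℂ) (π x) = 0
      rw [hx, hχy]⟩
  have hTT₀ : T ≤ T₀ := by
    by_contra hne
    obtain ⟨y, hy, hyT₀, hyc⟩ := CfsgLib.CharBlocks.Primitive.exists_commutator_mem (Z := T₀) hTp le_rfl
      (fun s _ x hx => hTn.conj_mem x hx s) hne
    let μ := QuotientGroup.mk' T₀
    let D : Subgroup (G ⧸ N) := T ⊓ (Subgroup.centralizer ((T.map μ : Subgroup _) : Set _)).comap μ
    have hD : ∀ w, w ∈ D ↔ w ∈ T ∧ ∀ s ∈ T, ⁅w, s⁆ ∈ T₀ := fun w => by
      refine and_congr Iff.rfl ?_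
      show μ w ∈ Subgroup.centralizer ((T.map μ : Subgroup _) : Set _) ↔ _
      rw [Subgroup.mem_centralizer_iff]
      refine ⟨fun h s hs => (QuotientGroup.eq_one_iff _).1 ?_, ?_⟩
      · show μ ⁅w, s⁆ = 1
        rw [map_commutatorElement, commutatorElement_eq_one_iff_mul_comm]
        exact (h _ (Subgroup.mem_map_of_mem μ hs)).symm
      · rintro h _ ⟨s, hs, rfl⟩
        have h1 : μ ⁅w, s⁆ = 1 := (QuotientGroup.eq_one_iff _).2 (h s hs)
        rw [map_commutatorElement, commutatorElement_eq_one_iff_mul_comm] at h1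
        exact h1.symm
    have hT₀c : ∀ t ∈ T₀, ∀ w ∈ T, w * t = t * w := fun t ht => ((hT₀ t).1 ht).2.1
    -- `y` has order `p`
    have hyp : y ^ p = 1 := by
      have hc : ∀ w ∈ T, w * y ^ p = y ^ p * w := fun w hw => by
        have hc0 := inv_mem (hyc w hw)
        rw [commutatorElement_inv] at hc0
        refine mul_inv_eq_iff_eq_mul.1 ?_
        rw [← conj_pow, show w * y * w⁻¹ = ⁅w, y⁆ * y by simp [commutatorElement_def, mul_assoc],
          (show Commute ⁅w, y⁆ y from (hT₀c _ hc0 y hy).symm).mul_pow, ((hT₀ _).1 hc0).2.2, one_mul]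
      by_contra h
      obtain ⟨x, hx⟩ := hπs y
      obtain ⟨b, hb, hbe⟩ := hAlift _ (hcenT _ (pow_mem hy p) hc)
      exact hnopow x p dvd_rfl b hb (hfree b hb fun h' => h (by rw [← hbe, h', map_one]))
        (by rw [map_pow, hx, hbe])
    obtain ⟨v, hv, hve⟩ : ∃ v ∈ (S : Subgroup G), π v = y :=
      CfsgLib.Cores.pCore_le_sylow (S.mapSurjective hπs) hy
    have hinjS : ∀ u ∈ (S : Subgroup G), π u = 1 → u = 1 := fun u hu h => by
      have : u ∈ (S : Subgroup G) ⊓ N := ⟨hu, (QuotientGroup.eq_one_iff u).1 h⟩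
      rwa [hSN, Subgroup.mem_bot] at this
    let B : Subgroup G := (S : Subgroup G) ⊓ (D ⊓ Subgroup.centralizer ({y} : Set (G ⧸ N))).comap π
    have hBmem : ∀ c, c ∈ B ↔ c ∈ (S : Subgroup G) ∧ (π c ∈ D ∧ π c * y = y * π c) := fun c => by
      refine and_congr Iff.rfl (and_congr Iff.rfl ?_)
      exact Subgroup.mem_centralizer_singleton_iff
    let B₁ : Subgroup G := A ⊔ Subgroup.zpowers v
    have hgen : B₁ ≤ B := by
      refine sup_le (fun c hc => (hBmem c).2 ⟨(Subgroup.mem_inf.1 hc).1, (hD _).2 ⟨((hT₀ _).1 (hAπ c hc)).1,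
        fun s hs => ?_⟩, (hT₀c _ (hAπ c hc) y hy).symm⟩) (Subgroup.zpowers_le.2 ((hBmem v).2 ⟨hv, ?_, by rw [hve]⟩))
      · rw [commutatorElement_eq_one_iff_mul_comm.2 (hT₀c _ (hAπ c hc) s hs).symm]
        exact one_mem T₀
      · rw [hve]; exact (hD y).2 ⟨hy, hyc⟩
    have hcomm₁ : ∀ c ∈ B₁, ∀ c' ∈ B₁, Commute c c' := by
      have hAcen : ∀ c ∈ A, ∀ c' ∈ B, Commute c' c := fun c hc c' hc' =>
        commutatorElement_eq_one_iff_mul_comm.1 (hinjS _ (by
          rw [commutatorElement_def]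
          exact mul_mem (mul_mem (mul_mem ((hBmem c').1 hc').1 (Subgroup.mem_inf.1 hc).1)
            (inv_mem ((hBmem c').1 hc').1)) (inv_mem (Subgroup.mem_inf.1 hc).1))
          (by rw [map_commutatorElement, commutatorElement_eq_one_iff_mul_comm]
              exact hT₀c _ (hAπ c hc) _ ((hD _).1 ((hBmem c').1 hc').2.1).1))
      have hle : B₁ ≤ Subgroup.centralizer ((B₁ : Subgroup G) : Set G) := by
        refine sup_le (fun c hc => Subgroup.mem_centralizer_iff.2 fun c' hc' => (hAcen c hc c' (hgen hc')).eq) ?_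
        refine Subgroup.zpowers_le.2 (Subgroup.mem_centralizer_iff.2 fun c' hc' => ?_)
        refine commutatorElement_eq_one_iff_mul_comm.1 (hinjS _ (by
          rw [commutatorElement_def]
          exact mul_mem (mul_mem (mul_mem ((hBmem c').1 (hgen hc')).1 hv) (inv_mem ((hBmem c').1 (hgen hc')).1))
            (inv_mem hv)) ?_)
        rw [map_commutatorElement, commutatorElement_eq_one_iff_mul_comm, hve]
        exact ((hBmem c').1 (hgen hc')).2.2
      exact fun c hc c' hc' => (Subgroup.mem_centralizer_iff.1 (hle hc) c' hc').symm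
    have hvp : v ^ p = 1 := hinjS _ (pow_mem hv p) (by rw [map_pow, hve, hyp])
    have hpow : ∀ c ∈ B₁, c ^ p = 1 := fun c hc => by
      let E : Subgroup G :=
        { carrier := {u | u ∈ B₁ ∧ u ^ p = 1}
          one_mem' := ⟨one_mem B₁, one_pow p⟩
          mul_mem' := fun {u w} hu hw => ⟨mul_mem hu.1 hw.1, by
            rw [(hcomm₁ u hu.1 w hw.1).mul_pow, hu.2, hw.2, one_mul]⟩
          inv_mem' := fun {u} hu => ⟨inv_mem hu.1, by rw [inv_pow, hu.2, inv_one]⟩ }
      have hle : B₁ ≤ E := sup_le (fun u hu => ⟨Subgroup.mem_sup_left hu, hAel.2 u hu⟩)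
        (Subgroup.zpowers_le.2 ⟨Subgroup.mem_sup_right (Subgroup.mem_zpowers v), hvp⟩)
      exact (hle hc).2
    have hBel : Cfsg.IsElementaryAbelian p B₁ :=
      ⟨⟨⟨fun c c' => Subtype.ext (hcomm₁ c c.2 c' c'.2).eq⟩⟩, hpow⟩
    have hBfpf : ∀ c ∈ B₁, c ≠ 1 → N ⊓ Subgroup.centralizer ({c} : Set G) = ⊥ := by
      intro c hc hc1
      obtain ⟨hcS, hcD, -⟩ := (hBmem c).1 (hgen hc)
      by_cases hcT : π c ∈ T₀
      · exact hfpf c ⟨hcS, hcT⟩ (hfree c ⟨hcS, hcT⟩ hc1)
      refine hfix1 c (orderOf_eq_prime (hpow c hc) hc1) fun n hn j hj _ => ?_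
      have hj' : π c ^ j ∉ T₀ := fun h => hcT (by
        obtain ⟨k, -, hk⟩ := Nat.exists_mul_mod_eq_one_of_coprime ((hp.coprime_iff_not_dvd).2 hj).symm hp.one_lt
        have h1 := pow_mem h k
        rwa [← pow_mul, ← Nat.mod_add_div (j * k) p, hk, pow_add, pow_one, pow_mul, ← map_pow π c p,
          hpow c hc, map_one, one_pow, mul_one] at h1)
      have hjD := (hD _).1 (pow_mem hcD j)
      exact hvanT _ hjD.1 hj' hjD.2 _ (by
        rw [map_mul, map_pow, show π n = 1 from (QuotientGroup.eq_one_iff n).2 hn, mul_one])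
    refine hN1 (le_bot_iff.1 (CfsgLib.Cores.le_of_hyperplanes (R := ⊥) hBel hNco (fun x _ => by
      rw [Subgroup.normalizer_eq_top N]; exact Subgroup.mem_top x) fun B' hB'B hidx => ?_))
    obtain ⟨c, hcB, hc1⟩ : ∃ c ∈ B', c ≠ 1 := by
      refine (Subgroup.bot_or_exists_ne_one B').resolve_left fun hB => hyT₀ ?_
      rw [hB, Subgroup.relIndex_bot_left] at hidx
      have e : A = B₁ := Subgroup.eq_of_le_of_card_ge le_sup_left (by rw [hAcard]; exact hidx)
      have hvA : v ∈ A := e ▸ (Subgroup.mem_sup_right (Subgroup.mem_zpowers v) : v ∈ B₁)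
      exact hve ▸ hAπ v hvA
    exact le_of_le_of_eq (inf_le_inf_left _ (Subgroup.centralizer_le (Set.singleton_subset_iff.2 hcB)))
      (hBfpf c (hB'B hcB) hc1)
  have hTcard : Nat.card T = p := by
    rw [le_antisymm hTT₀ (fun x hx => ((hT₀ x).1 hx).1), hT₀card]
  -- the Sylow subgroup centralises `T`
  set S' := (S : Subgroup G).map π with hS'
  have hTS : T ≤ S' := CfsgLib.Cores.pCore_le_sylow (S.mapSurjective hπs)
  have hS'T : S' ≤ T := fun x hx => hCT (Subgroup.mem_centralizer_iff.2 fun y hy => by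
    let R := T.subgroupOf S'
    have hR : R ≠ ⊥ := fun h => hT (by
      rw [Subgroup.subgroupOf_eq_bot, disjoint_iff, inf_eq_left.2 hTS] at h; exact h)
    have hRc : Nat.card R = p := by rw [Nat.card_congr (Subgroup.subgroupOfEquivOfLe hTS).toEquiv, hTcard]
    have hne := CfsgLib.PGroup.inf_center_ne_bot (S.2.map π) R hR
    have hle : R ≤ Subgroup.center S' := by
      have : Fact (Nat.card R).Prime := ⟨hRc.symm ▸ hp⟩
      rcases Subgroup.eq_bot_or_eq_top_of_prime_card ((R ⊓ Subgroup.center S').subgroupOf R) with h | h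
      · rw [Subgroup.subgroupOf_eq_bot, disjoint_iff, inf_assoc, inf_comm (Subgroup.center S'), ← inf_assoc,
          inf_idem] at h
        exact absurd h hne
      · exact fun w hw => (Subgroup.subgroupOf_eq_top.1 h hw).2
    have := Subgroup.mem_center_iff.1 (hle (show (⟨y, hTS hy⟩ : S') ∈ R from hy)) ⟨x, hx⟩
    exact (congrArg Subtype.val this).symm)
  rw [hScard, ← hTcard]
  exact Subgroup.card_le_of_le hS'T

end CfsgLib.OneOrderVanish
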